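import Groth.Agent.LocCohZ41.Tilde
import Groth.Agent.LocCohZ46.Pairs
import Groth.Agent.S6026
import Groth.Prelude.Def_CohTop

/-!
Cohomology with supports in a closed subset of an affine open as colimit Koszul cohomology.
-/

set_option autoImplicit false
universe u

open CategoryTheory CategoryTheory.Limits AlgebraicGeometry TopologicalSpace Opposite
open Groth.Agent.TopCoh49 Groth.Agent.KosCech41 Groth.Agent.LocCohZ41

namespace Groth.Agent.LocCohZ93

theorem nonempty_HZM_affine {Y : Scheme.{u}} [IsAffine Y] (G : Y.Modules) [G.IsQuasicoherent]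
    {A : Type u} [CommRing A] (ρ : A →+* Γ(Y, ⊤)) (fs : List A) (i : ℕ) :
    Nonempty (CohIII.koszulHLim fs ((secR G ρ).obj (op ⊤)) i ≃+
      LocCohZ.HZM Y G i (⨆ j, Ufam ρ fs j)) := by
  let S := sysR G ρ fs
  haveI hsub : ∀ j, Subsingleton (E (X := Y.toTopCat) (Coh.toAb G) (j + 1) (⊤ : Y.Opens)) :=
    fun j => subsingleton_E_top G j
  obtain ⟨⟨e₀⟩, ⟨e₁⟩⟩ := nonempty_restriction S (⨆ j, Ufam ρ fs j)
    (fun j => le_iSup (Ufam ρ fs) j) le_rfl le_top
    (TopCat.Presheaf.isSheaf_of_iso (secRIso G ρ).symm (Coh.toAb G).property)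
  match i with
  | 0 => exact ⟨e₀.symm.trans (LocCohZ.sect0Equiv (X := Y.toTopCat) (Coh.toAb G) le_top).symm⟩
  | 1 =>
    haveI := hsub 0
    obtain ⟨e⟩ := nonempty_one (X := Y.toTopCat) (Coh.toAb G)
      (le_top : (⨆ j, Ufam ρ fs j) ≤ ⊤)
    exact ⟨e₁.symm.trans e⟩
  | p + 2 =>
    haveI := hsub p
    haveI := hsub (p + 1)
    obtain ⟨e⟩ := nonempty_cech_koszul S p
    have hac : ∀ (n : ℕ) (a : Fin (n + 1) → ULift.{u} (Fin fs.length)) (r : ℕ),
        Subsingleton (E (X := Y.toTopCat) (Coh.toAb G) (r + 1)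
          (inter (X := Y.toTopCat) (Ufam ρ fs) a)) := fun n a r => by
      obtain ⟨g, hg⟩ := exists_inter ρ fs a
      refine CechComp71.subsingleton_E_affine G ?_ r
      exact Eq.mpr (congrArg IsAffineOpen hg) ((isAffineOpen_top Y).basicOpen g)
    obtain ⟨a⟩ := cech_equiv (U := Ufam ρ fs) (p + 1) (Coh.toAb G) hac
    let ι : CohTop.cechH (S.F ⋙ forget₂ (ModuleCat.{u} A) AddCommGrpCat.{u}) S.U (p + 1) ≅
        CohTop.cechH (Coh.toAb G).obj (Ufam ρ fs) (p + 1) :=
      (HomologicalComplex.homologyFunctor AddCommGrpCat.{u} (ComplexShape.up ℕ) (p + 1)).mapIso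
        ((cechComplexFunctor (A := AddCommGrpCat.{u}) S.U).mapIso (secRIso G ρ))
    exact ⟨((e.symm.trans ι.addCommGroupIsoToAddEquiv).trans a).trans
      (AddEquiv.ofBijective _ (delta_bijective (X := Y.toTopCat) (Coh.toAb G)
        (le_top : (⨆ j, Ufam ρ fs j) ≤ ⊤) (p + 1)))⟩

/-- Isomorphic sheaves have isomorphic cohomology with supports. -/
noncomputable def mapIso {X : TopCat.{u}} {F G : CohTop.Ab X} {i : ℕ} {W V : Opens X} {h : W ≤ V} (e : F ≅ G) :
    LocCohZ.HZ F i h ≃+ LocCohZ.HZ G i h where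
  toFun := LocCohZ.map e.hom i h
  invFun := LocCohZ.map e.inv i h
  left_inv z := by simp [LocCohZ.map]
  right_inv z := by simp [LocCohZ.map]
  map_add' a b := map_add _ a b

variable {X : Scheme.{u}} (M : X.Modules) (V : X.Opens)

/-- The restricted abelian sheaf is the abelian sheaf of the restricted module. -/
noncomputable def restrToAb : CohTop.restr (X := X.toTopCat) (Coh.toAb M) V ≅
    (Coh.toAb (M.restrict V.ι) : CohTop.Ab (TopCat.of V)) :=
  (sheafToPresheaf _ _).preimageIso (NatIso.ofComponents (fun W => Iso.refl _) (fun h => by ext x; rfl))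

theorem res3 {V A B : (Opens X)ᵒᵖ} (f : V ⟶ A) (g : A ⟶ B) (h : B ⟶ V) (a : X.presheaf.obj V) :
    X.presheaf.map h (X.presheaf.map g (X.presheaf.map f a)) = a := by
  rw [← ConcreteCategory.comp_apply, ← ConcreteCategory.comp_apply, ← X.presheaf.map_comp, ← X.presheaf.map_comp,
    Subsingleton.elim (f ≫ g ≫ h) (𝟙 V), X.presheaf.map_id]
  rfl

/-- Cohomology with supports on an affine open as colimit Koszul cohomology. -/
theorem nonempty_HZ_affineOpen [M.IsQuasicoherent] (hV : IsAffineOpen V) (U : X.Opens) (fs : List Γ(X, V))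
    (hfs : V ⊓ U = ⨆ i : ULift.{u} (Fin fs.length), X.basicOpen (fs.get i.down)) (i : ℕ) :
    Nonempty (CohIII.koszulHLim fs (ModuleCat.of Γ(X, V) Γ(M, V)) i ≃+
      LocCohZ.HZ (X := X.toTopCat) (Coh.toAb M) i (inf_le_left : V ⊓ U ≤ V)) := by
  haveI : IsAffine V.toScheme := hV
  haveI : (M.restrict V.ι).IsQuasicoherent := inferInstance
  let ρ : Γ(X, V) →+* Γ(V.toScheme, ⊤) := V.topIso.inv.hom
  obtain ⟨e⟩ := nonempty_HZM_affine (M.restrict V.ι) ρ fs i
  obtain ⟨x, -⟩ := S6026.result (X := X.toTopCat) (inf_le_left : V ⊓ U ≤ V) i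
  have hopen : (⨆ j, Ufam ρ fs j) = (Opens.map (CohCx.incl (X := X.toTopCat) V)).obj (V ⊓ U) := by
    have key : ∀ j, V.ι ''ᵁ Ufam ρ fs j = X.basicOpen (fs.get j.down) := fun j => by
      rw [Ufam, Scheme.image_basicOpen]
      have hr : (V.ι.appIso ⊤).inv (ρ (fs.get j.down)) =
          X.presheaf.map (homOfLE (V.ι_image_top.le)).op (fs.get j.down) := by
        simp [ρ]
        rfl
      rw [hr, Scheme.basicOpen_res]
      exact inf_eq_right.2 ((X.basicOpen_le _).trans V.ι_image_top.ge)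
    apply Opens.ext
    ext z
    change z ∈ (⨆ j, Ufam ρ fs j : V.toScheme.Opens) ↔ V.ι z ∈ V ⊓ U
    rw [hfs, Opens.mem_iSup, Opens.mem_iSup]
    refine exists_congr fun j => ?_
    rw [← key j]
    refine ⟨fun h => ⟨z, h, rfl⟩, ?_⟩
    rintro ⟨w, hw, hwz⟩
    rwa [V.ι.isOpenEmbedding.injective hwz] at hw
  let c : LocCohZ.HZc (CohTop.restr (X := X.toTopCat) (Coh.toAb M) V) i
        ((Opens.map (CohCx.incl (X := X.toTopCat) V)).obj (V ⊓ U)) ≃+
      LocCohZ.HZM V.toScheme (M.restrict V.ι) i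
        ((Opens.map (CohCx.incl (X := X.toTopCat) V)).obj (V ⊓ U)) :=
    mapIso (X := TopCat.of V) (i := i)
    (h := (le_top : (Opens.map (CohCx.incl (X := X.toTopCat) V)).obj (V ⊓ U) ≤ ⊤)) (restrToAb M V)
  rw [hopen] at e
  have hsec : Nonempty ((secR (M.restrict V.ι) ρ).obj (op ⊤) ≅ ModuleCat.of Γ(X, V) Γ(M, V)) := by
    let e' : Γ(M.restrict V.ι, (⊤ : V.toScheme.Opens)) ≃+ Γ(M, V) :=
      (M.presheaf.mapIso (eqToIso V.ι_image_top).symm.op).addCommGroupIsoToAddEquiv
    let N := (secR (M.restrict V.ι) ρ).obj (op ⊤)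
    let l : N ≃ₗ[Γ(X, V)] Γ(M, V) :=
      { toFun := fun z => e' z
        invFun := fun z => e'.symm z
        left_inv := fun z => e'.symm_apply_apply z
        right_inv := fun z => e'.apply_symm_apply z
        map_add' := fun a b => e'.map_add a b
        map_smul' := fun a z => by
          simp only [RingHom.id_apply]
          change e' _ = a • e' z
          refine (M.map_smul _ _ _).trans ?_
          change _ • e' z = _
          congr 1
          simp only [ρ, Scheme.Opens.ι_appIso, Scheme.Opens.topIso]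
          exact res3 _ _ _ a }
    exact ⟨l.toModuleIso⟩
  obtain ⟨s⟩ := hsec
  obtain ⟨k⟩ := nonempty_koszulHLim_congr s fs i
  exact ⟨(k.symm.trans e).trans (c.symm.trans (x (Coh.toAb M)).symm)⟩

end Groth.Agent.LocCohZ93
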