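import Groth.Agent.LocCohZ46.Vanish
import Groth.Agent.TopCoh49.CechOrd
import Groth.Agent.TopCoh49.CechCoh
import Groth.Agent.CechComp71.Scheme
import Groth.Agent.S17753
import Groth.Prelude.Def_Coh

/-!
Local cohomology sheaves of quasi-coherent modules vanish above the dimension of the local rings on the support.
-/

set_option autoImplicit false
universe u

open CategoryTheory CategoryTheory.Limits AlgebraicGeometry TopologicalSpace Opposite
open Groth.Agent.TopCoh49 Groth.Agent.LocCohZ46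

namespace Groth.Agent.LocCohZ93

theorem eres_surjective_of_eq {X : TopCat.{u}} (F : CohTop.Ab X) (i : ℕ) {W V : Opens X} (h : W ≤ V)
    (e : W = V) : Function.Bijective (eres F i h) := by
  subst e
  have : ∀ x : E F i W, eres F i h x = x := fun x => by
    change (CategoryTheory.Abelian.Ext.mk₀ ((freeFun X).map (homOfLE h))).comp x (zero_add i) = x
    rw [show homOfLE h = 𝟙 W from rfl, (freeFun X).map_id, CategoryTheory.Abelian.Ext.mk₀_id_comp]
  exact ⟨fun a b hab => (this a).symm.trans (hab.trans (this b)), fun a => ⟨a, this a⟩⟩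

/-- Cohomology of a union of `d` basic opens of an affine open vanishes from degree `d` on. -/
theorem subsingleton_E_basicOpens {X : Scheme.{u}} (M : X.Modules) [M.IsQuasicoherent] {V : X.Opens}
    (hV : IsAffineOpen V) {d : ℕ} (g : Fin d → Γ(X, V)) (j : ℕ) (hj : d ≤ j) :
    Subsingleton (E (X := X.toTopCat) (Coh.toAb M) j (⨆ k : ULift.{u} (Fin d), X.basicOpen (g k.down))) := by
  let U : ULift.{u} (Fin d) → Opens X.toTopCat := fun k => X.basicOpen (g k.down)
  have hinter : ∀ (n : ℕ) (a : Fin (n + 1) → ULift.{u} (Fin d)),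
      ∃ h : Γ(X, V), inter U a = X.basicOpen h := by
    intro n
    induction n with
    | zero =>
      exact fun a => ⟨g (a 0).down, le_antisymm (inter_le _ a 0) (le_iInf fun m => by rw [Fin.fin_one_eq_zero m])⟩
    | succ n ih =>
      intro a
      obtain ⟨h, hh⟩ := ih (Fin.tail a)
      refine ⟨h * g (a 0).down, ?_⟩
      rw [Scheme.basicOpen_mul, ← hh]
      refine le_antisymm (le_inf (le_iInf fun m => inter_le U a m.succ) (inter_le U a 0)) (le_iInf fun m => ?_)
      cases m using Fin.cases with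
      | zero => exact inf_le_right
      | succ m => exact inf_le_left.trans (inter_le U (Fin.tail a) m)
  have hac : ∀ (n : ℕ) (a : Fin (n + 1) → ULift.{u} (Fin d)) (q : ℕ),
      Subsingleton (E (X := X.toTopCat) (Coh.toAb M) (q + 1) (inter U a)) := fun n a q => by
    obtain ⟨h, hh⟩ := hinter n a
    rw [hh]
    exact CechComp71.subsingleton_E_affine M (hV.basicOpen h) q
  obtain ⟨e⟩ := cech_equiv U j (Coh.toAb M) hac
  haveI : Subsingleton (CohTop.cechH (Coh.toAb M).obj U j) :=
    AddCommGrpCat.subsingleton_of_isZero (isZero_cechH_of_card_le _ U j (by simpa using hj))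
  exact e.symm.toEquiv.subsingleton

/-- A closed subset of an affine open is cut out near a point by as many equations as the dimension. -/
theorem exists_equations {X : Scheme.{u}} [IsLocallyNoetherian X] (U : X.Opens) {V₀ : X.Opens}
    (hV₀ : IsAffineOpen V₀) {x : X} (hx : x ∈ V₀) (hxU : x ∉ U) (d : ℕ)
    (hd : ringKrullDim (X.presheaf.stalk x) = d) :
    ∃ (s : Γ(X, V₀)) (g : Fin d → Γ(X, V₀)), x ∈ X.basicOpen s ∧
      X.basicOpen s ⊓ U = ⨆ k : ULift.{u} (Fin d), X.basicOpen (g k.down * s) := by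
  let A := Γ(X, V₀)
  have : IsNoetherianRing A := IsLocallyNoetherian.component_noetherian ⟨V₀, hV₀⟩
  let ι := hV₀.fromSpec
  let Z : Set (PrimeSpectrum A) := (ι.base ⁻¹' (U : Set X))ᶜ
  have hZ : IsClosed Z := (U.2.preimage ι.continuous).isClosed_compl
  let J := PrimeSpectrum.vanishingIdeal Z
  have hJ : PrimeSpectrum.zeroLocus (J : Set A) = Z := by
    rw [PrimeSpectrum.zeroLocus_vanishingIdeal_eq_closure, hZ.closure_eq]
  let p := hV₀.primeIdealOf ⟨x, hx⟩
  have hp : J ≤ p.asIdeal := by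
    have : p ∈ PrimeSpectrum.zeroLocus (J : Set A) := by
      rw [hJ]
      show ¬ (ι.base p ∈ (U : Set X))
      rw [show ι.base p = x from hV₀.fromSpec_primeIdealOf ⟨x, hx⟩]
      exact hxU
    exact this
  let Ap := X.presheaf.stalk x
  let : Algebra A Ap := (X.presheaf.germ V₀ x hx).hom.toAlgebra
  have hloc : IsLocalization.AtPrime Ap p.asIdeal := hV₀.isLocalization_stalk ⟨x, hx⟩
  have : IsNoetherianRing Ap := IsLocalization.isNoetherianRing p.asIdeal.primeCompl _ inferInstance
  let I := J.map (algebraMap A Ap)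
  have hI : I ≠ ⊤ := fun h => (IsLocalization.map_algebraMap_ne_top_iff_disjoint p.asIdeal.primeCompl Ap J).2
    (Set.disjoint_left.2 fun a ha ha' => ha (hp ha')) h
  obtain ⟨f, hfI, hrad⟩ := S17753.result Ap d hd I hI
  choose g t using fun k => (IsLocalization.mem_map_algebraMap_iff p.asIdeal.primeCompl Ap).1 (hfI k)
  let g' : Fin d → A := fun k => (g k).1.1
  have hu : ∀ k, IsUnit (algebraMap A Ap ((g k).2 : A)) := fun k => IsLocalization.map_units Ap (g k).2
  let N : Ideal A := Ideal.span (Set.range g')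
  have hN : (Ideal.span (Set.range f)) ≤ N.map (algebraMap A Ap) := by
    refine Ideal.span_le.2 ?_
    rintro _ ⟨k, rfl⟩
    refine (Ideal.mul_unit_mem_iff_mem _ (hu k)).1 ?_
    rw [t k]
    exact Ideal.mem_map_of_mem _ (Ideal.subset_span ⟨k, rfl⟩)
  obtain ⟨S, hS⟩ := J.fg_of_isNoetherianRing
  have hpow : ∀ j ∈ J, ∃ s : A, s ∉ p.asIdeal ∧ ∃ n : ℕ, s * j ^ n ∈ N := fun j hj => by
    have h1 : algebraMap A Ap j ∈ (N.map (algebraMap A Ap)).radical :=
      Ideal.radical_mono hN (hrad.le (Ideal.le_radical (Ideal.mem_map_of_mem _ hj)))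
    obtain ⟨n, hn⟩ := h1
    rw [← map_pow, IsLocalization.algebraMap_mem_map_algebraMap_iff p.asIdeal.primeCompl] at hn
    obtain ⟨s, hs, hsn⟩ := hn
    exact ⟨s, hs, n, hsn⟩
  choose s hs n hn using fun j : S => hpow j.1 (hS.le (Ideal.subset_span j.2))
  refine ⟨∏ j : S, s j, g', ?_, ?_⟩
  · have hsp : (∏ j : S, s j) ∉ p.asIdeal := fun hh => by
      obtain ⟨j, -, hj⟩ := (Ideal.IsPrime.prod_mem_iff).1 hh
      exact hs j hj
    have h2 : p ∈ (PrimeSpectrum.basicOpen (∏ j : S, s j)) := hsp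
    rw [← hV₀.fromSpec_preimage_basicOpen (∏ j : S, s j)] at h2
    have e : hV₀.fromSpec p = x := hV₀.fromSpec_primeIdealOf ⟨x, hx⟩
    have h3 : hV₀.fromSpec p ∈ X.basicOpen (∏ j : S, s j) := h2
    rwa [e] at h3
  · ext y
    by_cases hy : y ∈ V₀
    · let q := hV₀.primeIdealOf ⟨y, hy⟩
      have hmem : ∀ a : A, y ∈ X.basicOpen a ↔ a ∉ q.asIdeal := fun a => by
        have h2 : q ∈ ι ⁻¹ᵁ X.basicOpen a ↔ a ∉ q.asIdeal := by
          rw [hV₀.fromSpec_preimage_basicOpen a]
          exact Iff.rfl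
        rw [← h2]
        show _ ↔ ι.base q ∈ X.basicOpen a
        rw [show ι.base q = y from hV₀.fromSpec_primeIdealOf ⟨y, hy⟩]
      have hU : y ∈ U ↔ ¬ J ≤ q.asIdeal := by
        have : J ≤ q.asIdeal ↔ q ∈ Z := by rw [← hJ]; exact Iff.rfl
        rw [this]
        show _ ↔ ¬¬ (ι.base q ∈ (U : Set X))
        rw [not_not, show ι.base q = y from hV₀.fromSpec_primeIdealOf ⟨y, hy⟩]
        exact Iff.rfl
      simp only [Opens.coe_inf, Opens.coe_iSup, Set.mem_inter_iff, Set.mem_iUnion, SetLike.mem_coe, hmem, hU]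
      constructor
      · rintro ⟨hsq, hJq⟩
        by_contra hne
        push_neg at hne
        refine hJq (hS ▸ Ideal.span_le.2 fun j hj => ?_)
        have hN' : N ≤ q.asIdeal := Ideal.span_le.2 (by
          rintro _ ⟨k, rfl⟩
          exact (q.2.mem_or_mem (hne ⟨k⟩)).resolve_right hsq)
        refine q.2.mem_of_pow_mem (n ⟨j, hj⟩) ((q.2.mem_or_mem (hN' (hn ⟨j, hj⟩))).resolve_left fun hsj => ?_)
        exact hsq (Ideal.IsPrime.prod_mem_iff.2 ⟨⟨j, hj⟩, Finset.mem_univ _, hsj⟩)
      · rintro ⟨k, hk⟩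
        refine ⟨fun h => hk (q.asIdeal.mul_mem_left _ h), fun hJq => hk (q.asIdeal.mul_mem_right _ ?_)⟩
        have hfk : algebraMap A Ap (g' k.down) ∈ I := by
          rw [← t k.down]
          exact Ideal.mul_mem_right _ _ (hfI k.down)
        exact hJq (g k.down).1.2
    · simp only [Opens.coe_inf, Opens.coe_iSup, Set.mem_inter_iff, Set.mem_iUnion, SetLike.mem_coe]
      exact ⟨fun h => absurd (X.basicOpen_le _ h.1) hy, fun ⟨k, h⟩ => absurd (X.basicOpen_le _ h) hy⟩

theorem isZero_HZsh {X : Scheme.{u}} [IsLocallyNoetherian X] (U : X.Opens) (M : X.Modules)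
    [M.IsQuasicoherent] (i : ℕ)
    (hi : ∀ x : X, x ∉ (U : Set X) → ringKrullDim (X.presheaf.stalk x) < (i : WithBot ℕ∞)) :
    IsZero ((LocCohZ.HZsh (X := X.carrier) U i).obj (Coh.toAb M)) := by
  refine (locZero_iff (X := X.toTopCat) (U := U) (Coh.toAb M) i).2 fun W c x hxW => ?_
  by_cases hxU : x ∈ U
  · refine ⟨W ⊓ U, inf_le_left, ⟨hxW, hxU⟩, ?_⟩
    haveI := subsingleton_of_res (X := X.toTopCat) (U := U) (Coh.toAb M) (i := i) (W ⊓ U)
      (eres_surjective_of_eq _ i _ (by rw [inf_assoc, inf_idem])).1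
      (fun j _ => (eres_surjective_of_eq _ j _ (by rw [inf_assoc, inf_idem])).2)
    exact Subsingleton.elim _ _
  · obtain ⟨d, hd⟩ : ∃ d : ℕ, ringKrullDim (X.presheaf.stalk x) = d := by
      have h1 := hi x hxU
      have h2 := ringKrullDim_nonneg_of_nontrivial (R := X.presheaf.stalk x)
      revert h1 h2
      generalize ringKrullDim (X.presheaf.stalk x) = D
      intro h1 h2
      cases D with
      | bot => simp at h2
      | coe D =>
        cases D with
        | top => exact absurd h1 (by simp)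
        | coe D => exact ⟨D, rfl⟩
    have hdi : d < i := by
      have := hi x hxU
      rw [hd] at this
      exact_mod_cast this
    obtain ⟨j, rfl⟩ : ∃ j, i = j + 1 := ⟨i - 1, by omega⟩
    obtain ⟨_, ⟨V₀, hV₀, rfl⟩, hxV₀, hV₀W⟩ :=
      X.isBasis_affineOpens.exists_subset_of_mem_open hxW W.2
    obtain ⟨s, g, hxs, hsU⟩ := exists_equations U hV₀ hxV₀ hxU d hd
    refine ⟨X.basicOpen s, (X.basicOpen_le s).trans hV₀W, hxs, ?_⟩
    haveI h1 := CechComp71.subsingleton_E_affine M (hV₀.basicOpen s) j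
    haveI h2 : Subsingleton (E (X := X.toTopCat) (Coh.toAb M) j (X.basicOpen s ⊓ U)) := by
      rw [hsU]
      exact subsingleton_E_basicOpens M hV₀ (fun k => g k * s) j (by omega)
    haveI := subsingleton_of_res (X := X.toTopCat) (U := U) (Coh.toAb M) (i := j + 1) (X.basicOpen s)
      (fun a b _ => Subsingleton.elim a b)
      (fun m hm w => by
        obtain rfl : m = j := Nat.succ_injective hm
        exact ⟨0, Subsingleton.elim _ _⟩)
    exact Subsingleton.elim _ _

end Groth.Agent.LocCohZ93
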